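import Groth.Agent.BlowSep.Disjoint
import Groth.Agent.RZExt.Consequences
import Groth.Agent.RZExt.ExtendIdeal
import Groth.Agent.RZExt.Descend
import Groth.Agent.RZExt.Torsion
import Groth.Agent.ModPairLim.Blowup
import Mathlib

/-!
# The strict transform of a proper morphism near the closure of a closed subset of an open
-/

set_option autoImplicit false
set_option backward.isDefEq.respectTransparency false

universe u

open CategoryTheory CategoryTheory.Limits AlgebraicGeometry TopologicalSpace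

namespace Groth.Agent.StIso1282

open Groth.Agent.RZExt

/-- a quasi-compact open between a compact set and an open set -/
theorem exists_qc_open {X : Scheme.{u}} {K : Set X} (hK : IsCompact K) (W : X.Opens) (hKW : K ⊆ W) :
    ∃ O : X.Opens, K ⊆ O ∧ O ≤ W ∧ IsCompact (O : Set X) := by
  classical
  have h : ∀ x : K, ∃ A : X.Opens, IsAffineOpen A ∧ (x : X) ∈ A ∧ A ≤ W := fun x => by
    obtain ⟨A, hA, hxA, hAW⟩ := exists_isAffineOpen_mem_and_subset (X := X) (U := W) (hKW x.2)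
    exact ⟨A, hA, hxA, hAW⟩
  choose A hA hxA hAW using h
  obtain ⟨t, ht⟩ := hK.elim_finite_subcover (fun x : K => (A x : Set X)) (fun x => (A x).2)
    fun x hx => Set.mem_iUnion.2 ⟨⟨x, hx⟩, hxA ⟨x, hx⟩⟩
  refine ⟨⟨⋃ x ∈ t, (A x : Set X), isOpen_biUnion fun x _ => (A x).2⟩, ht, ?_,
    t.finite_toSet.isCompact_biUnion fun x _ => (hA x).isCompact⟩
  intro y hy
  obtain ⟨x, -, hx⟩ := Set.mem_iUnion₂.1 hy
  exact hAW x hx

/-- finite type ideals with the same zero locus have comparable powers on affines -/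
theorem exists_pow_le_of_support {P : Scheme.{u}} (E E' : P.IdealSheafData) (hE : BlowUp.IsFiniteTypeIdeal E)
    (W : P.affineOpens) (h : ∀ x ∈ W.1, x ∈ E'.support → x ∈ E.support) :
    ∃ m : ℕ, E.ideal W ^ m ≤ E'.ideal W := by
  refine Ideal.exists_pow_le_of_le_radical_of_fg ?_ (hE W)
  rw [← PrimeSpectrum.zeroLocus_subset_zeroLocus_iff]
  intro p hp
  have hyD : W.2.fromSpec p ∈ W.1 := W.2.range_fromSpec.subset ⟨p, rfl⟩
  have key : ∀ b : Γ(P, W.1), (W.2.fromSpec p ∈ P.basicOpen b ↔ b ∉ p.asIdeal) := fun b => by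
    rw [← W.2.fromSpec_image_basicOpen, Scheme.Hom.apply_mem_image_iff]
    rfl
  have hA : W.2.fromSpec p ∈ E'.support := by
    rw [Scheme.IdealSheafData.mem_support_iff_of_mem (U := W) hyD, Scheme.mem_zeroLocus_iff]
    exact fun b hb => fun hb' => (key b).1 hb' (hp hb)
  have hJ' := h _ hyD hA
  rw [Scheme.IdealSheafData.mem_support_iff_of_mem (U := W) hyD, Scheme.mem_zeroLocus_iff] at hJ'
  exact fun b hb => not_not.1 fun hb' => hJ' b hb ((key b).2 hb')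

/-- the torsion ideal only depends on the zero locus -/
theorem torsion_congr {P : Scheme.{u}} {E E' 𝒥 : P.IdealSheafData} (h : IsTorsionIdeal E 𝒥)
    (hE : BlowUp.IsFiniteTypeIdeal E) (hE' : BlowUp.IsFiniteTypeIdeal E')
    (hs : ∀ x, x ∈ E.support ↔ x ∈ E'.support) : IsTorsionIdeal E' 𝒥 := by
  intro W a
  obtain ⟨m, hm⟩ := exists_pow_le_of_support E E' hE W fun x _ => (hs x).2
  obtain ⟨m', hm'⟩ := exists_pow_le_of_support E' E hE' W fun x _ => (hs x).1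
  have hp : ∀ (G : P.IdealSheafData) (n : ℕ), (G ^ n).ideal W = G.ideal W ^ n := fun G n => by
    rw [Scheme.IdealSheafData.ideal_pow, Pi.pow_apply]
  refine (h W a).trans ⟨?_, ?_⟩
  · rintro ⟨n, hn⟩
    refine ⟨m' * n, fun c hc => hn c ?_⟩
    rw [hp, pow_mul] at hc
    rw [hp]
    exact Ideal.pow_right_mono hm' n hc
  · rintro ⟨n, hn⟩
    refine ⟨m * n, fun c hc => hn c ?_⟩
    rw [hp, pow_mul] at hc
    rw [hp]
    exact Ideal.pow_right_mono hm n hc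

/-- torsion ideals restrict to open subschemes -/
theorem torsion_comap {P P' : Scheme.{u}} {E 𝒥 : P.IdealSheafData} (h : IsTorsionIdeal E 𝒥) (j : P' ⟶ P)
    [IsOpenImmersion j] : IsTorsionIdeal (E.comap j) (𝒥.comap j) := by
  intro W a
  let W₀ : P.affineOpens := ⟨j ''ᵁ W.1, W.2.image_of_isOpenImmersion j⟩
  have e : W.1 ≤ j ⁻¹ᵁ W₀.1 := (j.preimage_image_eq W.1).ge
  have hb : Function.Bijective (j.appLE W₀.1 W.1 e).hom := by
    have h1 : j.appLE W₀.1 W.1 e = (j.appIso W.1).hom := by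
      rw [← cancel_epi (j.appIso W.1).inv, Scheme.Hom.appIso_inv_appLE, Iso.inv_hom_id]
      exact P'.presheaf.map_id _
    rw [h1]
    exact ConcreteCategory.bijective_of_isIso (j.appIso W.1).hom
  obtain ⟨a₀, rfl⟩ := hb.2 a
  have hp : ∀ n : ℕ, ((E.comap j) ^ n).ideal W = ((E ^ n).ideal W₀).map (j.appLE W₀.1 W.1 e).hom := fun n => by
    rw [Scheme.IdealSheafData.ideal_pow, Pi.pow_apply, FpqcDescent.ideal_comap_appLE E j W₀ W e,
      Scheme.IdealSheafData.ideal_pow, Pi.pow_apply, Ideal.map_pow]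
  rw [FpqcDescent.ideal_comap_appLE 𝒥 j W₀ W e, Ideal.mem_map_iff_of_surjective _ hb.2]
  constructor
  · rintro ⟨b, hb', hba⟩
    rw [hb.1 hba] at hb'
    obtain ⟨n, hn⟩ := (h W₀ a₀).1 hb'
    refine ⟨n, fun c hc => ?_⟩
    rw [hp, Ideal.mem_map_iff_of_surjective _ hb.2] at hc
    obtain ⟨c₀, hc₀, rfl⟩ := hc
    rw [← map_mul, hn c₀ hc₀, map_zero]
  · rintro ⟨n, hn⟩
    refine ⟨a₀, (h W₀ a₀).2 ⟨n, fun c₀ hc₀ => hb.1 ?_⟩, rfl⟩
    rw [map_mul, map_zero]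
    exact hn _ (by rw [hp]; exact Ideal.mem_map_of_mem _ hc₀)

/-- two blow-ups in the same centre -/
theorem exists_iso {X A B : Scheme.{u}} {a : A ⟶ X} {b : B ⟶ X} {J : X.IdealSheafData}
    (ha : BlowUp.IsBlowUp a J) (hb : BlowUp.IsBlowUp b J) : ∃ e : A ≅ B, e.hom ≫ b = a := by
  obtain ⟨f, hf, -⟩ := hb.2 A a ha.1
  obtain ⟨g, hg, -⟩ := ha.2 B b hb.1
  have h1 : f ≫ g = 𝟙 A := (ha.2 A a ha.1).unique (by rw [Category.assoc, hg, hf]) (Category.id_comp _)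
  have h2 : g ≫ f = 𝟙 B := (hb.2 B b hb.1).unique (by rw [Category.assoc, hf, hg]) (Category.id_comp _)
  exact ⟨⟨f, g, h1, h2⟩, hf⟩

/-- After an admissible blow-up the strict transform is an isomorphism near the closure of `T`. -/
theorem main {X Y : Scheme.{u}} [CompactSpace Y] [QuasiSeparatedSpace Y] (f : X ⟶ Y) [IsProper f] (V : Y.Opens)
    (hV : IsCompact (V : Set Y)) (T : Set Y) (hTV : T ⊆ V) (hT : IsClosed (Subtype.val ⁻¹' T : Set V))
    (W : Y.Opens) (hTW : T ⊆ W) (hWV : W ≤ V) [IsIso (f ∣_ W)] :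
    ∃ (K : Y.IdealSheafData) (Y' : Scheme.{u}) (b : Y' ⟶ Y), BlowUp.IsBlowUp b K ∧
      BlowUp.IsFiniteTypeIdeal K ∧ (K.support : Set Y) = (V : Set Y)ᶜ ∧
      ∀ (X' : Scheme.{u}) (p₁ : X' ⟶ X) (p₂ : X' ⟶ Y'), IsPullback p₁ p₂ f b →
      ∀ (𝒥 : X'.IdealSheafData), IsTorsionIdeal ((K.comap f).comap p₁) 𝒥 →
        ∃ W' : Y'.Opens, closure (b ⁻¹' T) ⊆ W' ∧ IsIso ((𝒥.subschemeι ≫ p₂) ∣_ W') := by
  -- separating quasi-compact opens
  have hTeq : Subtype.val '' (Subtype.val ⁻¹' T : Set V) = T := by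
    rw [Set.image_preimage_eq_iff, Subtype.range_coe]; exact hTV
  haveI : CompactSpace V := isCompact_iff_compactSpace.1 hV
  have hTc : IsCompact T := hTeq ▸ hT.isCompact.image continuous_subtype_val
  obtain ⟨W₁, hTW₁, hW₁W, hW₁c⟩ := exists_qc_open hTc W hTW
  let VT : Y.Opens := ⟨Subtype.val '' (Subtype.val ⁻¹' T : Set V)ᶜ, V.2.isOpenMap_subtype_val _ hT.isOpen_compl⟩
  obtain ⟨O, hCO, hOVT, hOc⟩ := exists_qc_open (hV.inter_right W₁.2.isClosed_compl) VT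
    (fun y hy => ⟨⟨y, hy.1⟩, fun h => hy.2 (hTW₁ h), rfl⟩)
  have hOV : O ≤ V := fun y hy => by
    obtain ⟨z, -, rfl⟩ := hOVT hy; exact z.2
  have hOT : ∀ y ∈ O, y ∉ T := fun y hy => by
    obtain ⟨z, hz, rfl⟩ := hOVT hy; exact hz
  obtain ⟨A, -, -, -, -, -, -, hAft, hAs⟩ := QC.exists_ftIdeal O hOc
  obtain ⟨B, -, -, -, -, -, -, hBft, hBs⟩ := QC.exists_ftIdeal W₁ hW₁c
  have hmemA : ∀ y, y ∈ A.support ↔ y ∉ O := fun y => Set.ext_iff.1 hAs y
  have hmemB : ∀ y, y ∈ B.support ↔ y ∉ W₁ := fun y => Set.ext_iff.1 hBs y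
  have hmemE : ∀ y, y ∈ (A ⊔ B).support ↔ y ∉ V := fun y => by
    rw [Scheme.IdealSheafData.support_sup]
    refine ⟨fun h hy => (hmemA y).1 h.1 (hCO ⟨hy, (hmemB y).1 h.2⟩), fun h => ⟨?_, ?_⟩⟩
    · exact (hmemA y).2 fun hy => h (hOV hy)
    · exact (hmemB y).2 fun hy => h (hWV (hW₁W hy))
  let E : Centre V := ⟨A ⊔ B, fun U => by
    rw [Scheme.IdealSheafData.ideal_sup, Pi.sup_apply]; exact Submodule.FG.sup (hAft U) (hBft U),
    Set.ext hmemE⟩
  let b₁ := E.b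
  -- the quasi-compact neighbourhood of the closure
  have hdisj := BlowSep.disjoint_closure (c := b₁) A B E.isBlowUp.1
  let C' : Set E.T := closure ((fun x => b₁ x) ⁻¹' ((V : Set Y) ∩ (W₁ : Set Y)ᶜ))
  let W'' : E.T.Opens := ⟨C'ᶜ, isClosed_closure.isOpen_compl⟩
  obtain ⟨W₂, hTW₂, hW₂W'', hW₂c⟩ := exists_qc_open
    (isClosed_closure (s := (fun x => b₁ x) ⁻¹' T)).isCompact W'' (fun y hy hy' => by
      refine Set.disjoint_left.1 hdisj (closure_mono ?_ hy) (closure_mono ?_ hy')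
      · exact fun x hx => ⟨(hmemA _).2 fun h => hOT _ h hx, fun h => (hmemE _).1 h (hTV hx)⟩
      · exact fun x hx => ⟨(hmemB _).2 hx.2, fun h => (hmemE _).1 h hx.1⟩)
  haveI : CompactSpace W₂.toScheme := isCompact_iff_compactSpace.1 hW₂c
  haveI : QuasiSeparatedSpace W₂.toScheme := W₂.ι.isOpenEmbedding.quasiSeparatedSpace
  let π : W₂.toScheme ⟶ Y := W₂.ι ≫ b₁
  let U₂ : W₂.toScheme.Opens := π ⁻¹ᵁ V
  have hU₂ : IsCompact (U₂ : Set W₂.toScheme) := by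
    haveI : QuasiCompact π := inferInstance
    exact π.isCompact_preimage hV
  have hU₂W : π ⁻¹ᵁ W₁ = U₂ := by
    ext z
    refine ⟨fun h => hWV (hW₁W h), fun h => ?_⟩
    by_contra hz
    exact hW₂W'' z.2 (subset_closure ⟨h, hz⟩)
  haveI : IsIso (f ∣_ W₁) := by
    have h1 : IsIso ((f ∣_ W) ∣_ (W.ι ⁻¹ᵁ W₁)) := inferInstance
    have h2 := ((MorphismProperty.isomorphisms Scheme.{u}).arrow_mk_iso_iff
      (morphismRestrictRestrict f W (W.ι ⁻¹ᵁ W₁))).1 h1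
    have h3 : W.ι ''ᵁ (W.ι ⁻¹ᵁ W₁) = W₁ := by
      rw [Scheme.Hom.image_preimage_eq_opensRange_inf, Scheme.Opens.opensRange_ι, inf_eq_right.2 hW₁W]
    rw [h3] at h2
    exact h2
  let f₁ := pullback.snd f π
  haveI : IsIso (f₁ ∣_ U₂) := hU₂W ▸ ModPairLim.isIso_restrict_of_isPullback (IsPullback.of_hasPullback f π) W₁
  haveI := nonempty_centre U₂ hU₂
  have hs : (inv (f₁ ∣_ U₂) ≫ (f₁ ⁻¹ᵁ U₂).ι) ≫ f₁ = U₂.ι := by
    rw [Category.assoc, ← morphismRestrict_ι, IsIso.inv_hom_id_assoc]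
  obtain ⟨I, Q, hQ⟩ := exists_closure_over_piece (f := f₁) hU₂ hs
  obtain ⟨J, hJft, hJd, hJI⟩ := exists_extend_centre (b₁ ⁻¹ᵁ V) W₂ (b₁.isCompact_preimage hV) hW₂c I.ideal I.ft
    (by rw [I.supp]; exact disjoint_compl_left)
  obtain ⟨Y', b₂, hb₂⟩ : ∃ (Y' : Scheme.{u}) (b₂ : Y' ⟶ E.T), BlowUp.IsBlowUp b₂ J :=
    BlowUpExist.exists_isBlowUp E.T J
  obtain ⟨K, hKft, hKs, hK⟩ := exists_isBlowUp_comp E.isBlowUp E.ft hJft hb₂
  have hKV : (K.support : Set Y) = (V : Set Y)ᶜ := by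
    rw [hKs, E.supp, Set.union_eq_left]
    rintro _ ⟨y, hy, rfl⟩ hyV
    exact Set.disjoint_left.1 hJd hy hyV
  refine ⟨K, Y', b₂ ≫ b₁, hK, hKft, hKV, fun X' p₁ p₂ hpb 𝒥 h𝒥 => ⟨b₂ ⁻¹ᵁ W₂, ?_, ?_⟩⟩
  · refine subset_trans ?_ (Set.preimage_mono (f := fun y => b₂ y) hTW₂)
    refine closure_minimal (fun y hy => subset_closure ?_) (isClosed_closure.preimage b₂.continuous)
    exact hy
  -- the blow-up over the quasi-compact neighbourhood
  obtain ⟨e, he⟩ : ∃ e : (b₂ ⁻¹ᵁ W₂).toScheme ≅ I.T, e.hom ≫ I.b = b₂ ∣_ W₂ := by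
    have h1 := BlowUpLib.isBlowUp_flat W₂.ι hb₂
    rw [hJI] at h1
    obtain ⟨e, he⟩ := exists_iso h1 I.isBlowUp
    have hsq := (isPullback_morphismRestrict b₂ W₂)
    refine ⟨hsq.isoPullback ≪≫ e, ?_⟩
    rw [Iso.trans_hom, Category.assoc, he, hsq.isoPullback_hom_fst]
  let P : X'.Opens := p₂ ⁻¹ᵁ (b₂ ⁻¹ᵁ W₂)
  let p' : P.toScheme ⟶ (b₂ ⁻¹ᵁ W₂).toScheme := p₂ ∣_ (b₂ ⁻¹ᵁ W₂)
  have hπ : (b₂ ∣_ W₂) ≫ π = (b₂ ⁻¹ᵁ W₂).ι ≫ b₂ ≫ b₁ := by
    rw [← Category.assoc, morphismRestrict_ι, Category.assoc]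
  let q₁ : P.toScheme ⟶ pullback f π := pullback.lift (P.ι ≫ p₁) (p' ≫ (b₂ ∣_ W₂)) (by
    rw [Category.assoc, Category.assoc, hpb.w, hπ, ← Category.assoc p', morphismRestrict_ι, Category.assoc])
  have hpb' : IsPullback q₁ (p' ≫ e.hom) f₁ I.b := by
    have houter : IsPullback (P.ι ≫ p₁) p' f ((b₂ ∣_ W₂) ≫ π) := by
      rw [hπ]
      exact (isPullback_morphismRestrict p₂ _).flip.paste_horiz hpb
    have h1 : IsPullback q₁ p' f₁ (b₂ ∣_ W₂) :=
      IsPullback.of_right (by rw [pullback.lift_fst]; exact houter) (pullback.lift_snd _ _ _)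
        (IsPullback.of_hasPullback f π)
    exact h1.of_iso (Iso.refl _) (Iso.refl _) e (Iso.refl _) (by simp) (by simp) (by simp) (by simp [he])
  have htor : IsTorsionIdeal ((I.ideal.comap f₁).comap q₁) (𝒥.comap P.ι) := by
    refine torsion_congr (torsion_comap h𝒥 P.ι)
      (isFiniteType_comap _ (isFiniteType_comap _ (isFiniteType_comap _ hKft)))
      (isFiniteType_comap _ (isFiniteType_comap _ I.ft)) fun z => ?_
    have hI : I.ideal.comap f₁ = I.ideal.comap (pullback.snd f π) := rfl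
    simp only [← SetLike.mem_coe, Scheme.IdealSheafData.support_comap, Closeds.coe_preimage, hKV, I.supp,
      Set.mem_preimage, Set.mem_compl_iff]
    have h1 : f₁ (q₁ z) = (b₂ ∣_ W₂) (p' z) := by
      rw [← Scheme.Hom.comp_apply, pullback.lift_snd, Scheme.Hom.comp_apply]
    rw [h1]
    show f (p₁ (P.ι z)) ∉ V ↔ π ((b₂ ∣_ W₂) (p' z)) ∉ V
    rw [← Scheme.Hom.comp_apply _ π, hπ, ← Scheme.Hom.comp_apply p', ← Category.assoc p', morphismRestrict_ι,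
      ← Scheme.Hom.comp_apply p₁, hpb.w]
    simp [Scheme.Hom.comp_apply]
    rfl
  obtain ⟨σ, hσi, hσ⟩ := strictTransform_iso hs I Q hQ hpb' (𝒥.comap P.ι) htor
  haveI := hσi
  haveI : IsIso Q.nhd.ι := by
    rw [Q.nhd_eq_top hs hQ]
    exact (inferInstance : IsIso (Scheme.topIso _).hom)
  haveI : IsIso ((𝒥.comap P.ι).subschemeι ≫ p') := by
    have h2 : IsIso ((𝒥.comap P.ι).subschemeι ≫ (p' ≫ e.hom)) := by rw [← hσ]; infer_instance
    rw [← Category.assoc] at h2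
    exact IsIso.of_isIso_comp_right _ e.hom
  rw [morphismRestrict_comp]
  let c := (isPullback_morphismRestrict 𝒥.subschemeι P).isoPullback ≪≫ (𝒥.comapIso P.ι).symm
  have hc : c.hom ≫ (𝒥.comap P.ι).subschemeι = 𝒥.subschemeι ∣_ P := by
    rw [Iso.trans_hom, Category.assoc, Iso.symm_hom, Scheme.IdealSheafData.comapIso_inv_subschemeι,
      IsPullback.isoPullback_hom_fst]
  rw [show (𝒥.subschemeι ∣_ P) = c.hom ≫ (𝒥.comap P.ι).subschemeι from hc.symm, Category.assoc]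
  infer_instance

end Groth.Agent.StIso1282
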